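import Mathlib
import Cfsg.Agent.Lib.Helper23.SnB.NQDefs

/-!
# S2986, package [Q8-NQ], sub-package [NQ-QUAD] (helper34)

A `p`-element `b` normalizing a finite `p`-group `Q` acts quadratically on `Q / Z` when
`Q = Y W` with `W / Z` and `Y / Z` of order `p ^ 2`.
-/

set_option autoImplicit false

namespace Cfsg.Agent.Lib.Helper34.SnB

open Cfsg Cfsg.Agent.Lib.Helper41.SnB Cfsg.Agent.Lib.Helper23.SnB

open scoped commutatorElement Pointwise

universe u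

section quad

variable {T : Type u} [Group T]

/-- In a nilpotent group, `N₂ ≤ [N₂, T] N₁` with `N₁` normal forces `N₂ ≤ N₁`. -/
theorem le_of_le_comm_sup [Group.IsNilpotent T] (N₁ N₂ : Subgroup T) [N₁.Normal]
    (h : N₂ ≤ ⁅N₂, (⊤ : Subgroup T)⁆ ⊔ N₁) : N₂ ≤ N₁ := by
  have key : ∀ i : ℕ, N₂ ≤ (⊤ : Subgroup T).lowerCentralSeries i ⊔ N₁ := by
    intro i
    induction i with
    | zero =>
      rw [Subgroup.lowerCentralSeries_zero]
      exact le_sup_of_le_left le_top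
    | succ i ih =>
      refine h.trans (sup_le ?_ le_sup_right)
      rw [Subgroup.commutator_le]
      intro x hx t _
      obtain ⟨g, hg, n, hn, rfl⟩ := Subgroup.mem_sup_of_normal_right.mp (ih hx)
      have h1 : ⁅g * n, t⁆ = g * ⁅n, t⁆ * g⁻¹ * ⁅g, t⁆ := by
        simp only [commutatorElement_def]
        group
      rw [h1]
      refine Subgroup.mul_mem _ (Subgroup.mem_sup_right ?_) (Subgroup.mem_sup_left ?_)
      · apply Subgroup.Normal.conj_mem inferInstance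
        rw [commutatorElement_def]
        have h2 : n * t * n⁻¹ * t⁻¹ = n * (t * n⁻¹ * t⁻¹) := by group
        rw [h2]
        exact N₁.mul_mem hn (Subgroup.Normal.conj_mem inferInstance _ (N₁.inv_mem hn) t)
      · rw [Subgroup.lowerCentralSeries_succ]
        exact Subgroup.commutator_mem_commutator hg (Subgroup.mem_top t)
  obtain ⟨n, hn⟩ :=
    Subgroup.nilpotent_iff_lowerCentralSeries.mp (inferInstance : Group.IsNilpotent T)
  have h3 := key n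
  rw [hn, bot_sup_eq] at h3
  exact h3

/-- In a finite `p`-group, a normal section `W / Z` of order `p ^ 2` is centralized twice. -/
theorem comm_comm_le_of_card [Finite T] (p : ℕ) [Fact p.Prime] (hT : IsPGroup p T)
    (Z W : Subgroup T) [Z.Normal] [W.Normal] (hZW : Z ≤ W)
    (hcard : Nat.card ↥W = p ^ 2 * Nat.card ↥Z) :
    ⁅⁅W, (⊤ : Subgroup T)⁆ ⊔ Z, (⊤ : Subgroup T)⁆ ≤ Z := by
  have hp : p.Prime := Fact.out
  haveI : Group.IsNilpotent T := hT.isNilpotent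
  obtain ⟨W₁, hW₁⟩ : ∃ W₁ : Subgroup T, W₁ = ⁅W, (⊤ : Subgroup T)⁆ ⊔ Z := ⟨_, rfl⟩
  haveI hW₁n : W₁.Normal := by
    rw [hW₁]
    infer_instance
  rw [← hW₁]
  have hW₁W : W₁ ≤ W := by
    rw [hW₁]
    exact sup_le (Subgroup.commutator_le_left _ _) hZW
  have hZW₁ : Z ≤ W₁ := by
    rw [hW₁]
    exact le_sup_right
  by_cases h1 : W₁ ≤ Z
  · exact (Subgroup.commutator_mono h1 le_rfl).trans (Subgroup.commutator_le_left _ _)
  · obtain ⟨W₂, hW₂⟩ : ∃ W₂ : Subgroup T, W₂ = ⁅W₁, (⊤ : Subgroup T)⁆ ⊔ Z := ⟨_, rfl⟩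
    have hW₂W₁ : W₂ ≤ W₁ := by
      rw [hW₂]
      exact sup_le (Subgroup.commutator_le_left _ _) hZW₁
    have hZW₂ : Z ≤ W₂ := by
      rw [hW₂]
      exact le_sup_right
    have hne1 : ¬ W ≤ W₁ := by
      intro h
      rw [hW₁] at h
      exact h1 (hW₁W.trans (le_of_le_comm_sup Z W h))
    have hne2 : ¬ W₁ ≤ W₂ := by
      intro h
      rw [hW₂] at h
      exact h1 (le_of_le_comm_sup Z W₁ h)
    obtain ⟨i, hi⟩ := IsPGroup.iff_card.mp (hT.to_subgroup Z)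
    obtain ⟨j, hj⟩ := IsPGroup.iff_card.mp (hT.to_subgroup W₂)
    obtain ⟨k, hk⟩ := IsPGroup.iff_card.mp (hT.to_subgroup W₁)
    have hcW : Nat.card ↥W = p ^ (i + 2) := by
      rw [hcard, hi, pow_add, mul_comm]
    have hij : i ≤ j := by
      have h2 := Subgroup.card_le_of_le hZW₂
      rw [hi, hj] at h2
      exact (Nat.pow_le_pow_iff_right hp.one_lt).mp h2
    have hjk : j < k := by
      by_contra hc
      push Not at hc
      apply hne2
      have h2 : Nat.card ↥W₁ ≤ Nat.card ↥W₂ := by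
        rw [hk, hj]
        exact Nat.pow_le_pow_right hp.pos hc
      exact (Subgroup.eq_of_le_of_card_ge hW₂W₁ h2).ge
    have hki : k < i + 2 := by
      by_contra hc
      push Not at hc
      apply hne1
      have h2 : Nat.card ↥W ≤ Nat.card ↥W₁ := by
        rw [hk, hcW]
        exact Nat.pow_le_pow_right hp.pos hc
      exact (Subgroup.eq_of_le_of_card_ge hW₁W h2).ge
    have hji : j = i := by omega
    have hW₂Z : W₂ = Z := by
      have h2 : Nat.card ↥W₂ ≤ Nat.card ↥Z := by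
        rw [hi, hj, hji]
      exact (Subgroup.eq_of_le_of_card_ge hZW₂ h2).symm
    calc ⁅W₁, (⊤ : Subgroup T)⁆ ≤ W₂ := by
          rw [hW₂]
          exact le_sup_left
      _ = Z := hW₂Z

/-- The elements central modulo the normal subgroup `Z`. -/
def centMod (Z : Subgroup T) [Z.Normal] : Subgroup T where
  carrier := {x | ∀ t : T, x * t * x⁻¹ * t⁻¹ ∈ Z}
  one_mem' := by
    intro t
    simp
  mul_mem' := by
    intro x y hx hy t
    have h : x * y * t * (x * y)⁻¹ * t⁻¹ =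
        x * (y * t * y⁻¹ * t⁻¹) * x⁻¹ * (x * t * x⁻¹ * t⁻¹) := by group
    rw [h]
    exact Z.mul_mem (Subgroup.Normal.conj_mem inferInstance _ (hy t) x) (hx t)
  inv_mem' := by
    intro x hx t
    have h : x⁻¹ * t * x⁻¹⁻¹ * t⁻¹ = x⁻¹ * (x * t * x⁻¹ * t⁻¹)⁻¹ * x⁻¹⁻¹ := by group
    rw [h]
    exact Subgroup.Normal.conj_mem inferInstance _ (Z.inv_mem (hx t)) x⁻¹

theorem mem_centMod (Z : Subgroup T) [Z.Normal] (x : T) :
    x ∈ centMod Z ↔ ∀ t : T, x * t * x⁻¹ * t⁻¹ ∈ Z := Iff.rfl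

end quad

theorem zpowers_isPGroup_quad {G : Type u} [Group G] {p : ℕ} {t : G} {k : ℕ}
    (h : t ^ (p ^ k) = 1) : IsPGroup p ↥(Subgroup.zpowers t) := by
  rintro ⟨g, hg⟩
  obtain ⟨j, rfl⟩ := Subgroup.mem_zpowers_iff.mp hg
  refine ⟨k, Subtype.ext ?_⟩
  show (t ^ j) ^ (p ^ k) = 1
  rw [← zpow_natCast, ← zpow_mul, mul_comm, zpow_mul, zpow_natCast, h, one_zpow]

/-- Package [NQ-QUAD]. -/
theorem pkgQuad : PkgQuad.{u} := by
  intro G _ p _ Q W Y Z _ b k hb hQ hZW hZY hWQ hYQ hnorm hcW hcY hcov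
  classical
  have hp : p.Prime := Fact.out
  -- `b⁻¹` is a power of `b`
  have hbinv : b⁻¹ = b ^ (p ^ k - 1) := by
    have hpos : 0 < p ^ k := pow_pos hp.pos k
    have h1 : b ^ (p ^ k - 1) * b = 1 := by
      rw [← pow_succ, Nat.sub_add_cancel hpos, hb]
    exact (eq_inv_of_mul_eq_one_left h1).symm
  have hpow : ∀ (X : Subgroup G), (∀ a ∈ X, b * a * b⁻¹ ∈ X) →
      ∀ n : ℕ, ∀ a ∈ X, b ^ n * a * (b ^ n)⁻¹ ∈ X := by
    intro X hX n
    induction n with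
    | zero =>
      intro a ha
      simpa using ha
    | succ n ih =>
      intro a ha
      have h1 := hX _ (ih a ha)
      have h2 : b ^ (n + 1) * a * (b ^ (n + 1))⁻¹ = b * (b ^ n * a * (b ^ n)⁻¹) * b⁻¹ := by
        rw [pow_succ']
        group
      rw [h2]
      exact h1
  have hbN : ∀ (X : Subgroup G), (∀ a ∈ X, b * a * b⁻¹ ∈ X) →
      b ∈ Subgroup.normalizer (X : Set G) := by
    intro X hX
    rw [Subgroup.mem_normalizer_iff]
    intro a
    refine ⟨hX a, fun h => ?_⟩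
    have h1 := hpow X hX (p ^ k - 1) _ h
    rw [← hbinv] at h1
    have h2 : b⁻¹ * (b * a * b⁻¹) * b⁻¹⁻¹ = a := by group
    rw [h2] at h1
    exact h1
  have hQN : ∀ (X : Subgroup G), (∀ g ∈ Q, ∀ a ∈ X, g * a * g⁻¹ ∈ X) →
      Q ≤ Subgroup.normalizer (X : Set G) := by
    intro X hX g hg
    rw [Subgroup.mem_normalizer_iff]
    intro a
    refine ⟨hX g hg a, fun h => ?_⟩
    have h1 := hX g⁻¹ (Q.inv_mem hg) _ h
    have h2 : g⁻¹ * (g * a * g⁻¹) * g⁻¹⁻¹ = a := by group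
    rw [h2] at h1
    exact h1
  have hBQ : Subgroup.zpowers b ≤ Subgroup.normalizer (Q : Set G) :=
    Subgroup.zpowers_le.mpr (hbN Q (hnorm b (Or.inr rfl)).1)
  -- the `p`-group `Γ = Q ⟨b⟩`
  obtain ⟨Γ, hΓ⟩ : ∃ Γ : Subgroup G, Γ = Q ⊔ Subgroup.zpowers b := ⟨_, rfl⟩
  have hQΓ : Q ≤ Γ := hΓ ▸ le_sup_left
  have hBΓ : Subgroup.zpowers b ≤ Γ := hΓ ▸ le_sup_right
  haveI hΓfin : Finite ↥Γ := by
    have h1 : ((Q ⊔ Subgroup.zpowers b : Subgroup G) : Set G) =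
        (Q : Set G) * (Subgroup.zpowers b : Set G) :=
      Subgroup.coe_mul_of_right_le_normalizer_left Q (Subgroup.zpowers b) hBQ
    have h2 : ((Q : Set G) * (Subgroup.zpowers b : Set G)).Finite := by
      apply Set.Finite.mul
      · exact Set.toFinite _
      · exact (isOfFinOrder_iff_pow_eq_one.mpr ⟨p ^ k, pow_pos hp.pos k, hb⟩).finite_zpowers
    rw [hΓ]
    exact Set.finite_coe_iff.mpr (h1 ▸ h2)
  have hΓp : IsPGroup p ↥Γ := by
    rw [hΓ]
    exact IsPGroup.to_sup_of_normal_left' hQ (zpowers_isPGroup_quad hb) hBQ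
  have hΓN : ∀ (X : Subgroup G), X ≤ Q →
      (∀ g : G, g ∈ Q ∨ g = b → ∀ a ∈ X, g * a * g⁻¹ ∈ X) → (X.subgroupOf Γ).Normal := by
    intro X hXQ hX
    rw [Subgroup.normal_subgroupOf_iff_le_normalizer (hXQ.trans hQΓ), hΓ]
    exact sup_le (hQN X (fun g hg => hX g (Or.inl hg)))
      (Subgroup.zpowers_le.mpr (hbN X (hX b (Or.inr rfl))))
  haveI hZn : (Z.subgroupOf Γ).Normal :=
    hΓN Z (hZW.trans hWQ) (fun g hg => (hnorm g hg).2.2.2)
  haveI hWn : (W.subgroupOf Γ).Normal := hΓN W hWQ (fun g hg => (hnorm g hg).2.1)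
  haveI hYn : (Y.subgroupOf Γ).Normal := hΓN Y hYQ (fun g hg => (hnorm g hg).2.2.1)
  have hcard : ∀ X : Subgroup G, X ≤ Γ → Nat.card ↥(X.subgroupOf Γ) = Nat.card ↥X :=
    fun X hX => Nat.card_congr (Subgroup.subgroupOfEquivOfLe hX).toEquiv
  have hZΓ : Z ≤ Γ := hZW.trans (hWQ.trans hQΓ)
  have hW2 : ⁅⁅W.subgroupOf Γ, (⊤ : Subgroup ↥Γ)⁆ ⊔ Z.subgroupOf Γ, (⊤ : Subgroup ↥Γ)⁆ ≤
      Z.subgroupOf Γ :=
    comm_comm_le_of_card p hΓp (Z.subgroupOf Γ) (W.subgroupOf Γ)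
      (fun x hx => Subgroup.mem_subgroupOf.mpr (hZW (Subgroup.mem_subgroupOf.mp hx)))
      (by rw [hcard W (hWQ.trans hQΓ), hcard Z hZΓ, hcW])
  have hY2 : ⁅⁅Y.subgroupOf Γ, (⊤ : Subgroup ↥Γ)⁆ ⊔ Z.subgroupOf Γ, (⊤ : Subgroup ↥Γ)⁆ ≤
      Z.subgroupOf Γ :=
    comm_comm_le_of_card p hΓp (Z.subgroupOf Γ) (Y.subgroupOf Γ)
      (fun x hx => Subgroup.mem_subgroupOf.mpr (hZY (Subgroup.mem_subgroupOf.mp hx)))
      (by rw [hcard Y (hYQ.trans hQΓ), hcard Z hZΓ, hcY])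
  have hC : ∀ X' : Subgroup ↥Γ,
      ⁅⁅X', (⊤ : Subgroup ↥Γ)⁆ ⊔ Z.subgroupOf Γ, (⊤ : Subgroup ↥Γ)⁆ ≤ Z.subgroupOf Γ →
      ⁅X', (⊤ : Subgroup ↥Γ)⁆ ≤ centMod (Z.subgroupOf Γ) := by
    intro X' h x hx t
    have h1 := h (Subgroup.commutator_mem_commutator (Subgroup.mem_sup_left hx)
      (Subgroup.mem_top t))
    rwa [commutatorElement_def] at h1
  have hQC : ∀ u : ↥Γ, (u : G) ∈ Q → ∀ t : ↥Γ, ⁅u, t⁆ ∈ centMod (Z.subgroupOf Γ) := by
    intro u hu t
    obtain ⟨y, hy, w, hw, huyw⟩ := hcov u hu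
    obtain ⟨y', hy'⟩ : ∃ y' : ↥Γ, (y' : G) = y := ⟨⟨y, hQΓ (hYQ hy)⟩, rfl⟩
    obtain ⟨w', hw'⟩ : ∃ w' : ↥Γ, (w' : G) = w := ⟨⟨w, hQΓ (hWQ hw)⟩, rfl⟩
    have hu' : u = y' * w' := by
      apply Subtype.ext
      rw [Subgroup.coe_mul, hy', hw']
      exact huyw
    have hyY : y' ∈ Y.subgroupOf Γ := by
      rw [Subgroup.mem_subgroupOf, hy']
      exact hy
    have hwW : w' ∈ W.subgroupOf Γ := by
      rw [Subgroup.mem_subgroupOf, hw']
      exact hw
    have h1 : ⁅y' * w', t⁆ = y' * ⁅w', t⁆ * y'⁻¹ * ⁅y', t⁆ := by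
      simp only [commutatorElement_def]
      group
    rw [hu', h1]
    refine Subgroup.mul_mem _ ?_
      (hC _ hY2 (Subgroup.commutator_mem_commutator hyY (Subgroup.mem_top t)))
    apply hC _ hW2
    exact Subgroup.Normal.conj_mem inferInstance _
      (Subgroup.commutator_mem_commutator hwW (Subgroup.mem_top t)) y'
  have hfinal : ⁅⁅Q.subgroupOf Γ, (Subgroup.zpowers b).subgroupOf Γ⁆,
      (Subgroup.zpowers b).subgroupOf Γ⁆ ≤ Z.subgroupOf Γ := by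
    rw [Subgroup.commutator_le]
    intro c hc β _
    have hle : ⁅Q.subgroupOf Γ, (Subgroup.zpowers b).subgroupOf Γ⁆ ≤
        centMod (Z.subgroupOf Γ) := by
      rw [Subgroup.commutator_le]
      intro u hu t _
      exact hQC u (Subgroup.mem_subgroupOf.mp hu) t
    rw [commutatorElement_def]
    exact hle hc β
  have hmap := Subgroup.map_mono (f := Γ.subtype) hfinal
  rw [Subgroup.map_commutator, Subgroup.map_commutator, Subgroup.map_subgroupOf_eq_of_le hQΓ,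
    Subgroup.map_subgroupOf_eq_of_le hBΓ, Subgroup.map_subgroupOf_eq_of_le hZΓ] at hmap
  exact hmap

end Cfsg.Agent.Lib.Helper34.SnB
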